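import Cfsg.Agent.Lib.Helper28.O73.Defs

set_option autoImplicit false
set_option linter.unusedVariables false
set_option Elab.async false

namespace Cfsg.Agent.Lib.Helper28.O73

open Cfsg.Agent.Lib.Helper28.Fi22Sub.P8 (Gen)
open Cfsg.Agent.Lib.Helper28.TC

noncomputable section

theorem permP_blk0 : allRange (guard nn permP) 7 (0 * 2 ^ 7) = true := by decide +kernel
theorem permP_blk1 : allRange (guard nn permP) 7 (1 * 2 ^ 7) = true := by decide +kernel
theorem permP_blk2 : allRange (guard nn permP) 7 (2 * 2 ^ 7) = true := by decide +kernel
theorem permP_blk3 : allRange (guard nn permP) 7 (3 * 2 ^ 7) = true := by decide +kernel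
theorem permP_blk4 : allRange (guard nn permP) 7 (4 * 2 ^ 7) = true := by decide +kernel
theorem permP_blk5 : allRange (guard nn permP) 7 (5 * 2 ^ 7) = true := by decide +kernel
theorem permP_blk6 : allRange (guard nn permP) 7 (6 * 2 ^ 7) = true := by decide +kernel
theorem permP_blk7 : allRange (guard nn permP) 7 (7 * 2 ^ 7) = true := by decide +kernel
theorem permP_blk8 : allRange (guard nn permP) 7 (8 * 2 ^ 7) = true := by decide +kernel
theorem permP_blk9 : allRange (guard nn permP) 7 (9 * 2 ^ 7) = true := by decide +kernel
theorem permP_blk10 : allRange (guard nn permP) 7 (10 * 2 ^ 7) = true := by decide +kernel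
theorem permP_blk11 : allRange (guard nn permP) 7 (11 * 2 ^ 7) = true := by decide +kernel
theorem permP_blk12 : allRange (guard nn permP) 7 (12 * 2 ^ 7) = true := by decide +kernel
theorem permP_blk13 : allRange (guard nn permP) 7 (13 * 2 ^ 7) = true := by decide +kernel
theorem permP_blk14 : allRange (guard nn permP) 7 (14 * 2 ^ 7) = true := by decide +kernel
theorem permP_blk15 : allRange (guard nn permP) 7 (15 * 2 ^ 7) = true := by decide +kernel
theorem permP_blk16 : allRange (guard nn permP) 7 (16 * 2 ^ 7) = true := by decide +kernel
theorem permP_blk17 : allRange (guard nn permP) 7 (17 * 2 ^ 7) = true := by decide +kernel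
theorem permP_all : ∀ i, i < nn → permP i = true := by
  refine all_of_blocks nn permP 7 18 (by decide) ?_
  intro k hk
  interval_cases k
  · exact permP_blk0
  · exact permP_blk1
  · exact permP_blk2
  · exact permP_blk3
  · exact permP_blk4
  · exact permP_blk5
  · exact permP_blk6
  · exact permP_blk7
  · exact permP_blk8
  · exact permP_blk9
  · exact permP_blk10
  · exact permP_blk11
  · exact permP_blk12
  · exact permP_blk13
  · exact permP_blk14
  · exact permP_blk15
  · exact permP_blk16
  · exact permP_blk17

end

end Cfsg.Agent.Lib.Helper28.O73
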