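import Cfsg.Agent.Lib.Helper28.O73.Iso0
import Cfsg.Agent.Lib.Helper28.O73.Iso1
import Cfsg.Agent.Lib.Helper28.O73.Iso2
import Cfsg.Agent.Lib.Helper28.O73.Iso3
import Cfsg.Agent.Lib.Helper28.O73.Iso4
import Cfsg.Agent.Lib.Helper28.O73.Iso5
import Cfsg.Agent.Lib.Helper28.O73.Iso6
import Cfsg.Agent.Lib.Helper28.O73.Iso7

set_option autoImplicit false
set_option linter.unusedVariables false

namespace Cfsg.Agent.Lib.Helper28.O73

open Cfsg.Agent.Lib.Helper28.Fi22Sub.P8 (Gen)
open Cfsg.Agent.Lib.Helper28.TC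

noncomputable section

theorem isoOK_all (x : Gen) : isoOK x := by
  cases x
  · exact isoOK_b
  · exact isoOK_c
  · exact isoOK_d
  · exact isoOK_e
  · exact isoOK_f
  · exact isoOK_g
  · exact isoOK_h
  · exact isoOK_i

end

end Cfsg.Agent.Lib.Helper28.O73
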