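/-
The group `P₈` presented on the diagram `Y₃₃₁` (generators `b, …, i`) by the Coxeter relations, the spider
relation and `(bcdefgh)^9 = 1` is `Ω₇(3)`: the generators act on the orthogonal space `𝔽₃⁷` as minus the
reflections in eight vectors of norm 2. The relations and the faithfulness of the representation are
checked on the permutation action on the 2187 vectors (tables in `Defs.lean`, stabilizer chain
`756 · 260 · 96 · 27 · 9` in `Chain.lean`).
-/
import Cfsg.Agent.Lib.Helper28.O73.ChkP
import Cfsg.Agent.Lib.Helper28.O73.Loc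
import Cfsg.Agent.Lib.Helper28.O73.Iso
import Cfsg.Agent.Lib.Helper28.O73.Chain
import Cfsg.Agent.Lib.Helper28.Fi22Ord.Order
import Cfsg.Agent.Lib.Helper28.Y555.Basic
import Cfsg.Prelude.Def_Classical

set_option autoImplicit false

namespace Cfsg.Agent.Lib.Helper28.O73

open Cfsg.Agent.Lib.Helper28.TC
open Cfsg.Agent.Lib.Helper28.Ord
open Cfsg.Agent.Lib.Helper28.Fi22Sub
open Cfsg.Agent.Lib.Helper28.Fi22Sub.P8 (Gen)
open Cfsg.Agent.Lib.Helper28.Y555 (map_wval wval_congr)

/-- the presented group on `Y₃₃₁` -/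
abbrev GP8 : Type := PresentedGroup Fi22Ord.C3159.rels

/-- its generators -/
noncomputable abbrev g8 (x : Gen) : GP8 := pval Fi22Ord.C3159.rels x

/-! ### The permutation representation on the 2187 vectors -/

theorem permP_spec (i : ℕ) (hi : i < nn) :
    (∀ x, tf x i < nn ∧ tf x (tf x i) = i) ∧ ∀ w ∈ Fi22Ord.C3159.relWords, act tf w i = i := by
  have h := permP_all i hi
  unfold permP at h
  rw [band_eq_true] at h
  exact ⟨permRowOK_spec tf nn gens mem_gens i h.1, relRowOK_spec tf Fi22Ord.C3159.relWords i h.2⟩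

/-- the permutation table -/
noncomputable def T : PermTable Gen nn where
  tf := tf
  bound x i hi := ((permP_spec i hi).1 x).1
  invol x i hi := ((permP_spec i hi).1 x).2

theorem relWord_of_mem (e : WE Gen) (he : e ∈ coxE P8.edges ++ Fi22Ord.C3159.extraE) :
    e.evalW ∈ Fi22Ord.C3159.relWords := by
  rcases List.mem_append.1 he with h | h
  · exact Fi22Ord.C3159.coxE_words e h
  · exact Fi22Ord.C3159.extraE_words e h

theorem hrel : ∀ r ∈ Fi22Ord.C3159.rels, FreeGroup.lift T.perm r = 1 := by
  intro r hr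
  obtain ⟨e, he, rfl⟩ := (Fi22Ord.C3159.rels_iff r).1 hr
  exact T.lift_eq_one e (fun i hi => (permP_spec i hi).2 _ (relWord_of_mem e he))

/-- the permutation representation -/
noncomputable def phi : GP8 →* Equiv.Perm (Fin nn) := PresentedGroup.toGroup hrel

theorem card_range_ge : 756 * 260 * 96 * 27 * 9 ≤ Nat.card phi.range := by
  have hfix2 := fixOK_spec tf _ _ ch2_fix
  have hfix3 := fixOK_spec tf _ _ ch3_fix
  have hfix4 := fixOK_spec tf _ _ ch4_fix
  have hfix5 := fixOK_spec tf _ _ ch5_fix
  have hb := chain_bound (A := Equiv.Perm (Fin nn)) (X := Fin nn)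
    [(Subgroup.closure (wordPerms T chW1), ⟨chO1.root, ch1_rootlt⟩),
     (Subgroup.closure (wordPerms T chW2), ⟨chO2.root, ch2_rootlt⟩),
     (Subgroup.closure (wordPerms T chW3), ⟨chO3.root, ch3_rootlt⟩),
     (Subgroup.closure (wordPerms T chW4), ⟨chO4.root, ch4_rootlt⟩),
     (Subgroup.closure (wordPerms T chW5), ⟨chO5.root, ch5_rootlt⟩)] phi.range
    (by
      intro p hp
      simp only [List.mem_cons, List.not_mem_nil, or_false] at hp
      rcases hp with rfl | rfl | rfl | rfl | rfl <;>
        exact closure_wordPerms_le_range T hrel _)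
    (by
      simp only [List.pairwise_cons, List.mem_cons, List.not_mem_nil, or_false, forall_eq_or_imp,
        forall_eq, IsEmpty.forall_iff, implies_true, List.Pairwise.nil, and_true]
      refine ⟨⟨?_, ?_, ?_, ?_⟩, ⟨?_, ?_, ?_⟩, ⟨?_, ?_⟩, ?_⟩
      · exact closure_wordPerms_le_stabilizer T _ _ (hfix2 1 (by simp))
      · exact closure_wordPerms_le_stabilizer T _ _ (hfix3 1 (by simp))
      · exact closure_wordPerms_le_stabilizer T _ _ (hfix4 1 (by simp))
      · exact closure_wordPerms_le_stabilizer T _ _ (hfix5 1 (by simp))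
      · exact closure_wordPerms_le_stabilizer T _ _ (hfix3 3 (by simp))
      · exact closure_wordPerms_le_stabilizer T _ _ (hfix4 3 (by simp))
      · exact closure_wordPerms_le_stabilizer T _ _ (hfix5 3 (by simp))
      · exact closure_wordPerms_le_stabilizer T _ _ (hfix4 9 (by simp))
      · exact closure_wordPerms_le_stabilizer T _ _ (hfix5 9 (by simp))
      · exact closure_wordPerms_le_stabilizer T _ _ (hfix5 81 (by simp)))
  have h1 := orbit_ncard_closure T chW1 chO1 ch1_rootlt ch1_root chP1_all 12 756 ch_nn_le_pow ch1_count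
  have h2 := orbit_ncard_closure T chW2 chO2 ch2_rootlt ch2_root chP2_all 12 260 ch_nn_le_pow ch2_count
  have h3 := orbit_ncard_closure T chW3 chO3 ch3_rootlt ch3_root chP3_all 12 96 ch_nn_le_pow ch3_count
  have h4 := orbit_ncard_closure T chW4 chO4 ch4_rootlt ch4_root chP4_all 12 27 ch_nn_le_pow ch4_count
  have h5 := orbit_ncard_closure T chW5 chO5 ch5_rootlt ch5_root chP5_all 12 9 ch_nn_le_pow ch5_count
  simp only [List.map_cons, List.map_nil, List.prod_cons, List.prod_nil, h1, h2, h3, h4, h5] at hb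
  exact le_trans (by norm_num) hb

instance finite_GP8 : Finite GP8 := Fi22Ord.card_P8.1

theorem card_GP8 : Nat.card GP8 = 4585351680 := by
  apply le_antisymm
  · exact le_trans Fi22Ord.card_P8.2 (by norm_num)
  · have h1 : Nat.card phi.range ≤ Nat.card GP8 :=
      Nat.card_le_card_of_surjective _ phi.rangeRestrict_surjective
    exact le_trans (le_trans (by norm_num) card_range_ge) h1

theorem phi_injective : Function.Injective phi := by
  rw [← MonoidHom.ker_eq_bot_iff]
  have h1 : Nat.card phi.ker * Nat.card phi.range = Nat.card GP8 := by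
    rw [← Subgroup.index_ker, Subgroup.card_mul_index]
  have h2 : Nat.card phi.range ≤ Nat.card GP8 :=
    Nat.card_le_card_of_surjective _ phi.rangeRestrict_surjective
  have h3 : Nat.card phi.range = 4585351680 := by
    apply le_antisymm
    · rw [← card_GP8]; exact h2
    · exact le_trans (by norm_num) card_range_ge
  rw [h3, card_GP8] at h1
  have h4 : Nat.card phi.ker = 1 :=
    Nat.eq_of_mul_eq_mul_right (by norm_num : 0 < 4585351680) (by rw [h1, one_mul])
  exact Subgroup.card_eq_one.1 h4

/-! ### The matrices -/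

/-- the isometry group of the quadratic form `x₀² + x₁y₁ + x₂y₂ + x₃y₃` over `𝔽₃` -/
abbrev GO : Type := ↥(Cfsg.isometryGroup (ZMod 3) (Cfsg.quadFormOdd 3 (ZMod 3)))

set_option maxRecDepth 100000 in
theorem mat_sq (x : Gen) : mat x * mat x = 1 := by
  cases x <;> decide +kernel

theorem vec7_eta (u : ι → ZMod 3) :
    u = vec7 (u (.inl ())) (u (.inr (.inl 0))) (u (.inr (.inl 1))) (u (.inr (.inl 2)))
      (u (.inr (.inr 0))) (u (.inr (.inr 1))) (u (.inr (.inr 2))) := by
  funext k
  rcases k with _ | k | k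
  · rfl
  · fin_cases k <;> rfl
  · fin_cases k <;> rfl

/-- the generators as invertible matrices -/
noncomputable def glGen (x : Gen) : Matrix.GeneralLinearGroup ι (ZMod 3) :=
  ⟨mat x, mat x, mat_sq x, mat_sq x⟩

theorem glGen_mem (x : Gen) :
    glGen x ∈ Cfsg.isometryGroup (ZMod 3) (Cfsg.quadFormOdd 3 (ZMod 3)) := by
  intro u v
  show Cfsg.quadFormOdd 3 (ZMod 3) (Matrix.mulVec (mat x) u) = Cfsg.quadFormOdd 3 (ZMod 3) u
  rw [vec7_eta u]
  exact isoOK_all x _ _ _ _ _ _ _

/-- the generators as isometries -/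
noncomputable def goGen (x : Gen) : GO := ⟨glGen x, glGen_mem x⟩

/-- the matrix of an isometry -/
noncomputable def toM : GO →* Matrix ι ι (ZMod 3) :=
  (Units.coeHom (Matrix ι ι (ZMod 3))).comp (Subgroup.subtype _)

theorem toM_goGen (x : Gen) : toM (goGen x) = mat x := rfl

theorem toM_injective : Function.Injective toM := fun _ _ h => Subtype.ext (Units.ext h)

theorem act_mat (w : List Gen) (i : ℕ) (hi : i < nn) :
    Matrix.mulVec (toM (wval goGen w)) (dec i) = dec (act tf w i) ∧ act tf w i < nn := by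
  induction w with
  | nil =>
    refine ⟨?_, hi⟩
    rw [wval_nil, map_one, Matrix.one_mulVec]
    rfl
  | cons x w ih =>
    obtain ⟨h1, h2⟩ := ih
    rw [wval_cons, map_mul, ← Matrix.mulVec_mulVec, h1, act_cons, toM_goGen]
    exact ⟨loc_all x _ h2, T.bound x _ h2⟩

theorem dec_single : ∀ j : ι, dec (3 ^ pos j) = Pi.single j 1 := by decide +kernel

theorem pos_lt : ∀ j : ι, 3 ^ pos j < nn := by decide

theorem mat_eq_one_of_fix (A : Matrix ι ι (ZMod 3))
    (h : ∀ i, i < nn → Matrix.mulVec A (dec i) = dec i) : A = 1 := by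
  ext k j
  have h1 := congrFun (h _ (pos_lt j)) k
  rw [dec_single, Matrix.mulVec_single_one] at h1
  rw [Matrix.one_apply]
  rw [Pi.single_apply] at h1
  exact h1

theorem goGen_sq (x : Gen) : goGen x * goGen x = 1 :=
  toM_injective (by rw [map_mul, toM_goGen, mat_sq, map_one])

theorem goGen_relWord (w : List Gen) (hw : w ∈ Fi22Ord.C3159.relWords) : wval goGen w = 1 := by
  apply toM_injective
  rw [map_one]
  apply mat_eq_one_of_fix
  intro i hi
  rw [(act_mat w i hi).1, (permP_spec i hi).2 w hw]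

theorem goGen_rel : ∀ r ∈ Fi22Ord.C3159.rels, FreeGroup.lift goGen r = 1 := by
  intro r hr
  obtain ⟨e, he, rfl⟩ := (Fi22Ord.C3159.rels_iff r).1 hr
  rw [WE.lift_evalF goGen goGen_sq]
  exact goGen_relWord _ (relWord_of_mem e he)

/-- the orthogonal representation -/
noncomputable def theta0 : GP8 →* GO := PresentedGroup.toGroup goGen_rel

theorem theta0_g8 (x : Gen) : theta0 (g8 x) = goGen x := PresentedGroup.toGroup.of goGen_rel

/-! ### The two representations agree, and the orthogonal one is faithful -/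

theorem exists_word (g : GP8) : ∃ w : List Gen, g = wval g8 w := by
  let S : Subgroup GP8 :=
    { carrier := {g | ∃ w : List Gen, g = wval g8 w}
      mul_mem' := by
        rintro _ _ ⟨w₁, rfl⟩ ⟨w₂, rfl⟩
        exact ⟨w₁ ++ w₂, (wval_append g8 w₁ w₂).symm⟩
      one_mem' := ⟨[], rfl⟩
      inv_mem' := by
        rintro _ ⟨w, rfl⟩
        exact ⟨w.reverse, (wval_reverse g8 Fi22Ord.C3159.hinv w).symm⟩ }
  have h : g ∈ S := PresentedGroup.generated_by Fi22Ord.C3159.rels S
    (fun x => ⟨[x], by rw [wval_cons, wval_nil, mul_one]; rfl⟩) g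
  exact h

theorem glue (g : GP8) (i : Fin nn) :
    dec ((phi g i : Fin nn) : ℕ) = Matrix.mulVec (toM (theta0 g)) (dec i) := by
  obtain ⟨w, rfl⟩ := exists_word g
  have h1 : phi (wval g8 w) = (w.map T.perm).prod := toGroup_wval T hrel w
  have h2 : theta0 (wval g8 w) = wval goGen w := by
    rw [map_wval]
    exact wval_congr _ _ theta0_g8 w
  rw [h1, T.wordPerm_apply_val, h2, (act_mat w i i.2).1]
  rfl

theorem enc_dec : ∀ i, i < 2187 → enc (dec i) = i := by decide +kernel

theorem theta0_injective : Function.Injective theta0 := by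
  rw [injective_iff_map_eq_one]
  intro g hg
  apply phi_injective
  rw [map_one]
  ext i
  have h := glue g i
  rw [hg, map_one, Matrix.one_mulVec] at h
  have h2 := congrArg enc h
  rw [enc_dec _ (phi g i).2, enc_dec _ i.2] at h2
  rw [Equiv.Perm.one_apply]
  exact h2

/-! ### The presented group is perfect -/

theorem relWord_one (w : List Gen) (hw : w ∈ Fi22Ord.C3159.relWords) : wval g8 w = 1 := by
  obtain ⟨e, he, rfl⟩ := Fi22Ord.C3159.relWords_cover w hw
  exact wval_pval_eq_one Fi22Ord.C3159.rels Fi22Ord.C3159.hinv e ((Fi22Ord.C3159.rels_iff _).2 ⟨e, he, rfl⟩)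

theorem rel_cube (x y : Gen) (h : [x, y, x, y, x, y] ∈ Fi22Ord.C3159.relWords) :
    (g8 x * g8 y) ^ 3 = 1 := by
  have h1 := relWord_one _ h
  simpa [wval, pow_succ, mul_assoc] using h1

theorem rel_e7 : (g8 .b * g8 .c * g8 .d * g8 .e * g8 .f * g8 .g * g8 .h) ^ 9 = 1 := by
  have h : PresentedGroup.mk Fi22Ord.C3159.rels
      ((P8.b * P8.c * P8.d * P8.e * P8.f * P8.g * P8.h) ^ 9) = 1 :=
    PresentedGroup.one_of_mem (Or.inr (by simp [P8.extra]))
  rw [map_pow, map_mul, map_mul, map_mul, map_mul, map_mul, map_mul] at h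
  exact h

theorem comm_eq_of_cube' {Q : Type*} [CommGroup Q] (x y : Q) (hx : x * x = 1) (hy : y * y = 1)
    (h : (x * y) ^ 3 = 1) : x = y := by
  have h1 : (x * y) ^ 3 = (x * x) * (y * y) * (x * y) := by
    rw [pow_succ, pow_two]
    simp only [mul_comm, mul_left_comm]
  rw [h1, hx, hy, one_mul, one_mul] at h
  calc x = x * (y * y) := by rw [hy, mul_one]
    _ = (x * y) * y := by rw [mul_assoc]
    _ = y := by rw [h, one_mul]

theorem perfect_GP8 : commutator GP8 = ⊤ := by
  rw [eq_top_iff]
  intro g _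
  refine PresentedGroup.generated_by Fi22Ord.C3159.rels (commutator GP8) ?_ g
  intro x
  show g8 x ∈ commutator GP8
  rw [← Abelianization.ker_of, MonoidHom.mem_ker]
  set π : GP8 →* Abelianization GP8 := Abelianization.of with hπ
  have hsq : ∀ y, π (g8 y) * π (g8 y) = 1 := fun y => by
    rw [← map_mul, Fi22Ord.C3159.hinv, map_one]
  have step : ∀ x y : Gen, [x, y, x, y, x, y] ∈ Fi22Ord.C3159.relWords → π (g8 x) = π (g8 y) := by
    intro x y hxy
    have h := congrArg π (rel_cube x y hxy)
    rw [map_pow, map_mul, map_one] at h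
    exact comm_eq_of_cube' _ _ (hsq _) (hsq _) h
  have hc := step Gen.b Gen.c (by decide)
  have hd := step Gen.c Gen.d (by decide)
  have he := step Gen.d Gen.e (by decide)
  have hh := step Gen.d Gen.h (by decide)
  have hf := step Gen.e Gen.f (by decide)
  have hg := step Gen.f Gen.g (by decide)
  have hi := step Gen.h Gen.i (by decide)
  have hb : π (g8 Gen.b) = 1 := by
    have h := congrArg π rel_e7
    rw [map_pow, map_mul, map_mul, map_mul, map_mul, map_mul, map_mul, map_one,
      ← hh, ← hg, ← hf, ← he, ← hd, ← hc] at h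
    set A := π (g8 Gen.b) with hA
    have hA2 : A * A = 1 := hsq Gen.b
    have h7 : A * A * A * A * A * A * A = A := by
      rw [hA2, one_mul, hA2, one_mul, hA2, one_mul]
    rw [h7] at h
    have h9 : A ^ 9 = A := by
      rw [show (9 : ℕ) = 2 * 4 + 1 from rfl, pow_succ, pow_mul, pow_two, hA2, one_pow, one_mul]
    rw [h9] at h
    exact h
  cases x
  · exact hb
  · rw [← hc]; exact hb
  · rw [← hd, ← hc]; exact hb
  · rw [← he, ← hd, ← hc]; exact hb
  · rw [← hf, ← he, ← hd, ← hc]; exact hb
  · rw [← hg, ← hf, ← he, ← hd, ← hc]; exact hb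
  · rw [← hh, ← hd, ← hc]; exact hb
  · rw [← hi, ← hh, ← hd, ← hc]; exact hb

end Cfsg.Agent.Lib.Helper28.O73
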