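/-
The subgroup `⟨b, …, i⟩` of the presented Fischer group Fi₂₂ is isomorphic to `PΩ₇(3)`.
-/
import Cfsg.Agent.Lib.Helper28.O73.Hom
import Cfsg.Agent.S0286
import Cfsg.Agent.Lib.Helper14.OddTransport

set_option autoImplicit false

namespace Cfsg.Agent.Lib.Helper28.O73

open Cfsg.Agent.Lib.Helper28.TC
open Cfsg.Agent.Lib.Helper28.Ord
open Cfsg.Agent.Lib.Helper28.Fi22Sub
open Cfsg.Agent.Lib.Helper28.Fi22Sub.P8 (Gen)

/-- `Ω₇(3)` -/
abbrev Om : Subgroup GO := Cfsg.Omega (ZMod 3) (Cfsg.quadFormOdd 3 (ZMod 3))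

theorem theta0_mem_Om (g : GP8) : theta0 g ∈ Om := by
  have hg : g ∈ commutator GP8 := by rw [perfect_GP8]; trivial
  have h : theta0 g ∈ (commutator GP8).map theta0 := Subgroup.mem_map_of_mem _ hg
  rw [commutator_def, Subgroup.map_commutator] at h
  exact Subgroup.commutator_mono le_top le_top h

/-- the representation, into `Ω₇(3)` -/
noncomputable def thetaO : GP8 →* ↥Om := theta0.codRestrict Om theta0_mem_Om

theorem thetaO_injective : Function.Injective thetaO := by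
  intro a b h
  apply theta0_injective
  exact congrArg Subtype.val h

theorem two_ne_zero3 : (2 : ZMod 3) ≠ 0 := by decide

theorem card_Om : Nat.card ↥Om = 4585351680 := by
  have h1 := Cfsg.Agent.S0286.result (F := ZMod 3) (q := 3) (ZMod.card 3) (by decide) 3
  have h2 := Cfsg.Agent.Lib.Helper14.index_Omega_quadFormOdd 3 (ZMod 3) two_ne_zero3 (by norm_num)
  have h3 := Subgroup.card_mul_index Om
  rw [h1, h2] at h3
  norm_num [Finset.prod_range_succ] at h3
  omega

theorem thetaO_bijective : Function.Bijective thetaO := by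
  have : Finite ↥Om := Nat.finite_of_card_ne_zero (by rw [card_Om]; norm_num)
  apply Function.Injective.bijective_of_nat_card_le thetaO_injective
  rw [card_Om, card_GP8]

/-- `Ω₇(3)` has trivial centre, so it is `PΩ₇(3)` -/
noncomputable def omIso : ↥Om ≃* Cfsg.POmega (ZMod 3) (Cfsg.quadFormOdd 3 (ZMod 3)) :=
  (QuotientGroup.quotientBot (G := ↥Om)).symm.trans
    (QuotientGroup.quotientMulEquivOfEq
      (Cfsg.Agent.Lib.Helper14.center_Omega_quadFormOdd 3 (ZMod 3) two_ne_zero3 (by norm_num)).symm)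

/-! ### The subgroup of Fi₂₂ -/

/-- the presented Fi₂₂ -/
abbrev GF22 : Type := PresentedGroup Fi22x14080.rels

/-- the subgroup `⟨b, …, i⟩` -/
noncomputable abbrev K22 : Subgroup GF22 := subH Fi22x14080.rels Fi22x14080.subS

instance : Finite GF22 := Fi22Ord.finite_Fi22

theorem card_K22 : Nat.card K22 = 4585351680 := by
  obtain ⟨e, _, _⟩ := Fi22x14080.cosetEquiv
  have hidx : K22.index = 14080 := (Nat.card_congr e).trans (Nat.card_fin _)
  have h := Subgroup.card_mul_index K22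
  have hc : Nat.card GF22 = 64561751654400 := Fi22Ord.card_Fi22
  rw [hidx, hc] at h
  exact Nat.eq_of_mul_eq_mul_right (by norm_num : 0 < 14080) (by rw [h])

theorem exists_psi : ∃ ψ : GP8 →* GF22, Function.Injective ψ ∧ ψ.range = K22 := by
  obtain ⟨ψ, hψ⟩ := exists_hom_of_words P8.incl Fi22x14080.rels Fi22Ord.C3159.rels Fi22x14080.hinv
    (coxE P8.edges ++ Fi22Ord.C3159.extraE) (fun r hr => (Fi22Ord.C3159.rels_iff r).1 hr)
    (coxE Cfsg.Spor.Fi22.edges ++ Fi22x14080.extraE)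
    (fun e he => (Fi22x14080.rels_iff _).2 ⟨e, he, rfl⟩)
    (by decide +kernel)
  have hle : K22 ≤ ψ.range := by
    apply subH_le_range P8.incl Fi22x14080.rels Fi22Ord.C3159.rels Fi22x14080.subS ψ hψ
    rintro s (rfl | rfl | rfl | rfl | rfl | rfl | rfl | rfl)
    · exact ⟨P8.b, rfl⟩
    · exact ⟨P8.c, rfl⟩
    · exact ⟨P8.d, rfl⟩
    · exact ⟨P8.e, rfl⟩
    · exact ⟨P8.f, rfl⟩
    · exact ⟨P8.g, rfl⟩
    · exact ⟨P8.h, rfl⟩
    · exact ⟨P8.i, rfl⟩
  have hr : Nat.card ψ.range ≤ Nat.card GP8 :=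
    Nat.card_le_card_of_surjective _ ψ.rangeRestrict_surjective
  have heq : K22 = ψ.range := by
    apply Subgroup.eq_of_le_of_card_ge hle
    rw [card_K22, ← card_GP8]
    exact hr
  refine ⟨ψ, ?_, heq.symm⟩
  rw [← MonoidHom.ker_eq_bot_iff]
  have h1 : Nat.card ψ.ker * Nat.card ψ.range = Nat.card GP8 := by
    rw [← Subgroup.index_ker, Subgroup.card_mul_index]
  rw [← heq, card_K22, card_GP8] at h1
  have h4 : Nat.card ψ.ker = 1 :=
    Nat.eq_of_mul_eq_mul_right (by norm_num : 0 < 4585351680) (by rw [h1, one_mul])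
  exact Subgroup.card_eq_one.1 h4

/-- the subgroup `⟨b, …, i⟩` of the presented Fi₂₂ is `PΩ₇(3)` -/
theorem iso_K22 : Nonempty (↥K22 ≃* Cfsg.POmega (ZMod 3) (Cfsg.quadFormOdd 3 (ZMod 3))) := by
  obtain ⟨ψ, hinj, hrange⟩ := exists_psi
  have e1 : GP8 ≃* ψ.range := MonoidHom.ofInjective hinj
  have e2 : ↥K22 ≃* ψ.range := MulEquiv.subgroupCongr hrange.symm
  have e3 : GP8 ≃* ↥Om := MulEquiv.ofBijective thetaO thetaO_bijective
  exact ⟨e2.trans (e1.symm.trans (e3.trans omIso))⟩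

end Cfsg.Agent.Lib.Helper28.O73
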