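import Cfsg.Agent.Lib.Helper28.O73.Defs
import Cfsg.Prelude.Def_Classical

set_option autoImplicit false
set_option linter.unusedVariables false

namespace Cfsg.Agent.Lib.Helper28.O73

open Cfsg.Agent.Lib.Helper28.Fi22Sub.P8 (Gen)
open Cfsg.Agent.Lib.Helper28.TC

noncomputable section

/-- a vector from its seven coordinates -/
def vec7 (a0 a1 a2 a3 a4 a5 a6 : ZMod 3) : ι → ZMod 3 := fun k =>
  Nat.rec a0 (fun _ _ => Nat.rec a1 (fun _ _ => Nat.rec a2 (fun _ _ => Nat.rec a3 (fun _ _ =>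
    Nat.rec a4 (fun _ _ => Nat.rec a5 (fun _ _ => a6) (pos k - 5)) (pos k - 4)) (pos k - 3))
      (pos k - 2)) (pos k - 1)) (pos k)

/-- the matrix of a generator preserves the quadratic form -/
def isoOK (x : Gen) : Prop := ∀ a0 a1 a2 a3 a4 a5 a6 : ZMod 3,
    Cfsg.quadFormOdd 3 (ZMod 3) (Matrix.mulVec (mat x) (vec7 a0 a1 a2 a3 a4 a5 a6)) =
      Cfsg.quadFormOdd 3 (ZMod 3) (vec7 a0 a1 a2 a3 a4 a5 a6)

instance (x : Gen) : Decidable (isoOK x) := by unfold isoOK; infer_instance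

end

end Cfsg.Agent.Lib.Helper28.O73
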