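import Cfsg.Agent.Lib.Helper28.O73.Defs

set_option autoImplicit false
set_option linter.unusedVariables false
set_option Elab.async false

namespace Cfsg.Agent.Lib.Helper28.O73

open Cfsg.Agent.Lib.Helper28.Fi22Sub.P8 (Gen)
open Cfsg.Agent.Lib.Helper28.TC

noncomputable section

set_option maxRecDepth 100000 in
theorem loc_d : ∀ i, i < 2187 → locOK Gen.d i := by decide +kernel

end

end Cfsg.Agent.Lib.Helper28.O73
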