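import Cfsg.Agent.Lib.Helper28.O73.Loc0
import Cfsg.Agent.Lib.Helper28.O73.Loc1
import Cfsg.Agent.Lib.Helper28.O73.Loc2
import Cfsg.Agent.Lib.Helper28.O73.Loc3
import Cfsg.Agent.Lib.Helper28.O73.Loc4
import Cfsg.Agent.Lib.Helper28.O73.Loc5
import Cfsg.Agent.Lib.Helper28.O73.Loc6
import Cfsg.Agent.Lib.Helper28.O73.Loc7

set_option autoImplicit false
set_option linter.unusedVariables false

namespace Cfsg.Agent.Lib.Helper28.O73

open Cfsg.Agent.Lib.Helper28.Fi22Sub.P8 (Gen)
open Cfsg.Agent.Lib.Helper28.TC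

noncomputable section

theorem loc_all (x : Gen) : ∀ i, i < nn → locOK x i := by
  cases x
  · exact loc_b
  · exact loc_c
  · exact loc_d
  · exact loc_e
  · exact loc_f
  · exact loc_g
  · exact loc_h
  · exact loc_i

end

end Cfsg.Agent.Lib.Helper28.O73
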